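import Cfsg.Agent.ClassicalCore.OrthOdd

/-!
# Planes meeting in a line, determinants of reflections and transvections
-/

set_option autoImplicit false
set_option linter.unusedSectionVars false

namespace CfsgLib.ClassicalCore

variable {K V : Type*} [Field K] [AddCommGroup V] [Module K V] {B : LinearMap.BilinForm K V}

theorem refl_inv {a : V} (ha : B a a ≠ 0) : (refl ha)⁻¹ = refl ha := Module.reflection_inv _

/-- The product of two orthogonal reflections is `-1` on their plane. -/
theorem refl_mul_refl_apply {u v : V} (hu : B u u ≠ 0) (hv : B v v ≠ 0) (huv : B u v = 0) (z : V) :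
    (refl hu * refl hv) z = z - (2 / B u u * B u z) • u - (2 / B v v * B v z) • v := by
  rw [LinearEquiv.mul_apply, refl_apply hv, map_sub, map_smul, refl_of_orth hu huv, refl_apply hu]

section

variable (hs : ∀ u v, B u v = B v u) (h2 : (2 : K) ≠ 0)
include hs h2

/-- `z` lies in the plane of two orthogonal anisotropic vectors exactly when their product of
reflections negates it. -/
theorem neg_iff_mem_plane {u v : V} (hu : B u u ≠ 0) (hv : B v v ≠ 0) (huv : B u v = 0) (z : V) :
    (refl hu * refl hv) z = -z ↔ ∃ a b : K, z = a • u + b • v := by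
  rw [refl_mul_refl_apply hu hv huv]
  constructor
  · intro h
    refine ⟨B u z / B u u, B v z / B v v, ?_⟩
    have h3 : (2 : K) • z = (2 : K) • ((B u z / B u u) • u + (B v z / B v v) • v) := by
      rw [smul_add, smul_smul, smul_smul, two_smul]
      rw [sub_sub, sub_eq_iff_eq_add'] at h
      rw [show (2 : K) * (B u z / B u u) = 2 / B u u * B u z by ring,
        show (2 : K) * (B v z / B v v) = 2 / B v v * B v z by ring]
      exact eq_add_neg_iff_add_eq.1 h
    exact smul_right_injective V h2 h3
  · rintro ⟨a, b, rfl⟩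
    simp only [map_add, map_smul, smul_eq_mul, huv, hs v u]
    rw [show (2 : K) / B u u * (a * B u u + b * 0) = 2 * a by field_simp; ring,
      show (2 : K) / B v v * (a * 0 + b * B v v) = 2 * b by field_simp; ring]
    module

variable (hnd : ∀ u, (∀ v, B u v = 0) → u = 0) [FiniteDimensional K V] (hdim : 3 ≤ Module.finrank K V)
include hnd hdim

/-- A vector lying in every orthogonal anisotropic plane through `x` is a multiple of `x`. -/
theorem exists_smul_of_planes {x y : V} (hx : x ≠ 0)
    (h : ∀ u v, B u u ≠ 0 → B v v ≠ 0 → B u v = 0 →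
      (∃ a b : K, x = a • u + b • v) → ∃ a b : K, y = a • u + b • v) :
    ∃ c : K, y = c • x := by
  by_cases hxx : B x x = 0
  swap
  · obtain ⟨f, hf1, hf⟩ : ∃ f, B x f = 0 ∧ B f f ≠ 0 := by
      by_contra hc
      push Not at hc
      obtain ⟨w, hw0, hw1, -⟩ := exists_mem_ker_ne_zero hs hdim x x
      refine hw0 (hnd w fun v => ?_)
      set v' := v - (B x v / B x x) • x with hv'
      have h1 : B x v' = 0 := by simp [hv', hxx]
      have h4 := hc (w + v') (by simp [hw1, h1])
      simp only [map_add, LinearMap.add_apply, hc w hw1, hc v' h1, hs v' w] at h4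
      have h5 : B w v' = 0 := by
        have : (2 : K) * B w v' = 0 := by linear_combination h4
        simpa [h2] using this
      simpa [hv', hs w x, hw1] using h5
    obtain ⟨g, hg1, hg2, hg⟩ := exists_aniso_orth hs h2 hnd hdim hxx hf hf1
    obtain ⟨a, b, hab⟩ := h x f hxx hf hf1 ⟨1, 0, by simp⟩
    obtain ⟨a', b', hab'⟩ := h x g hxx hg hg1 ⟨1, 0, by simp⟩
    refine ⟨a', ?_⟩
    have e := congrArg (B g) (hab.symm.trans hab')
    simp only [map_add, map_smul, smul_eq_mul, hs g x, hg1, hs g f, hg2, mul_zero, zero_add] at e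
    rw [hab', (mul_eq_zero.1 e.symm).resolve_right hg, zero_smul, add_zero]
  · obtain ⟨t₀, ht₀⟩ : ∃ t, B x t ≠ 0 := by
      by_contra hc
      push Not at hc
      exact hx (hnd x hc)
    set t := (B x t₀)⁻¹ • t₀ with ht
    have hxt : B x t = 1 := by simp [ht, ht₀]
    set p := t - (B t t / 2) • x with hp
    have hxp : B x p = 1 := by simp [hp, hxx, hxt]
    have hpp : B p p = 0 := by
      simp only [hp, map_sub, map_smul, LinearMap.sub_apply, LinearMap.smul_apply, smul_eq_mul, hxx, hxt,
        hs t x]
      field_simp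
      ring
    -- hyperbolic planes are spanned by orthogonal anisotropic pairs
    have plane : ∀ p, B x p = 1 → B p p = 0 → ∃ a b : K, y = a • x + b • p := by
      intro p hxp hpp
      have h1 : B (x + p) (x + p) = 2 := by simp [hxx, hxp, hpp, hs p x, one_add_one_eq_two]
      have h3 : B (x - p) (x - p) = -2 := by simp [hxx, hxp, hpp, hs p x]; norm_num
      obtain ⟨a, b, hab⟩ := h (x + p) (x - p) (by rwa [h1]) (by rwa [h3, neg_ne_zero])
        (by simp [hxx, hxp, hpp, hs p x]) ⟨2⁻¹, 2⁻¹, by
          rw [← smul_add, add_add_sub_cancel, ← two_smul K x, smul_smul, inv_mul_cancel₀ h2, one_smul]⟩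
      exact ⟨a + b, a - b, by rw [hab]; module⟩
    have h1 : B (x + p) (x + p) ≠ 0 := by simpa [hxx, hxp, hpp, hs p x, one_add_one_eq_two] using h2
    have h3 : B (x - p) (x - p) ≠ 0 := by
      rw [show B (x - p) (x - p) = -2 by simp [hxx, hxp, hpp, hs p x]; norm_num]
      exact neg_ne_zero.2 h2
    obtain ⟨z, hz1, hz2, hz⟩ := exists_aniso_orth hs h2 hnd hdim h1 h3 (by simp [hxx, hxp, hpp, hs p x])
    have hxz : B x z = 0 := by
      simp only [map_add, map_sub, LinearMap.add_apply, LinearMap.sub_apply] at hz1 hz2
      have : (2 : K) * B x z = 0 := by linear_combination hz1 + hz2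
      simpa [h2] using this
    have hpz : B p z = 0 := by simpa [hxz] using hz1
    set p' := p + z - (B z z / 2) • x with hp'
    obtain ⟨a, b, hab⟩ := plane p hxp hpp
    obtain ⟨a', b', hab'⟩ := plane p' (by simp [hp', hxp, hxz, hxx]) (by
      simp only [hp', map_sub, map_add, map_smul, LinearMap.sub_apply, LinearMap.add_apply, LinearMap.smul_apply,
        smul_eq_mul, hs z x, hs p x, hs z p, hxx, hxp, hxz, hpz, hpp]
      field_simp
      ring)
    refine ⟨a', ?_⟩
    have e := congrArg (B z) (hab.symm.trans hab')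
    simp only [hp', map_add, map_sub, map_smul, smul_eq_mul, hs z x, hs z p, hxz, hpz, mul_zero, zero_add,
      sub_zero] at e
    rw [hab', (mul_eq_zero.1 e.symm).resolve_right hz, zero_smul, add_zero]

end

section det

variable {ι : Type*} [Fintype ι] [DecidableEq ι] {B : LinearMap.BilinForm K (ι → K)}

theorem det_id_add_smulRight (f : (ι → K) →ₗ[K] K) (a : ι → K) :
    (LinearMap.toMatrix' (LinearMap.id + f.smulRight a)).det = 1 + f a := by
  have h : LinearMap.toMatrix' (LinearMap.id + f.smulRight a) =
      1 + Matrix.vecMulVec a (fun j => f (Pi.single j 1)) := by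
    ext i j
    simp [LinearMap.toMatrix'_apply, Matrix.vecMulVec, Matrix.one_apply, Pi.single_apply, mul_comm]
  rw [h, Matrix.vecMulVec_eq Unit, Matrix.det_one_add_replicateCol_mul_replicateRow]
  congr 1
  conv_rhs => rw [show a = ∑ j, a j • (Pi.single j 1 : ι → K) from pi_eq_sum_univ' a, map_sum]
  simp [dotProduct, mul_comm]

theorem det_refl {a : ι → K} (ha : B a a ≠ 0) : (LinearMap.toMatrix' (refl ha).toLinearMap).det = -1 := by
  have h : (refl ha).toLinearMap = LinearMap.id + (-((2 / B a a) • B a)).smulRight a := by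
    refine LinearMap.ext fun u => ?_
    show refl ha u = u + (-((2 / B a a) • B a)) u • a
    rw [refl_apply, LinearMap.neg_apply, neg_smul, ← sub_eq_add_neg]
    rfl
  rw [h, det_id_add_smulRight, LinearMap.neg_apply, LinearMap.smul_apply, smul_eq_mul, div_mul_cancel₀ _ ha]
  norm_num

/-- A symplectic transvection. -/
def transv (hA : B.IsAlt) (x : ι → K) : (ι → K) ≃ₗ[K] (ι → K) :=
  LinearEquiv.ofLinearMap (LinearMap.id + (B.flip x).smulRight x) (LinearMap.id - (B.flip x).smulRight x)
    (LinearMap.ext fun z => by simp [hA x]) (LinearMap.ext fun z => by simp [hA x])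

theorem transv_apply (hA : B.IsAlt) (x z : ι → K) : transv hA x z = z + B z x • x := rfl

theorem transv_iso (hA : B.IsAlt) (x u v : ι → K) : B (transv hA x u) (transv hA x v) = B u v := by
  simp only [transv_apply, map_add, map_smul, LinearMap.add_apply, LinearMap.smul_apply, smul_eq_mul, hA x,
    ← LinearMap.IsAlt.neg hA v x]
  ring

theorem det_transv (hA : B.IsAlt) (x : ι → K) : (LinearMap.toMatrix' (transv hA x).toLinearMap).det = 1 := by
  rw [show (transv hA x).toLinearMap = LinearMap.id + (B.flip x).smulRight x from rfl, det_id_add_smulRight]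
  simp [hA x]

end det

end CfsgLib.ClassicalCore
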