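import Cfsg.Agent.Forms.SymplecticOrder
import Cfsg.Agent.Forms4.SymplecticSimple

/-!
# Normal subgroups of odd order modulo signs in symplectic groups
-/

set_option autoImplicit false

namespace CfsgLib.ClassicalCore

open CfsgLib.Forms CfsgLib.Forms4

variable {K V : Type*} [Field K] [AddCommGroup V] [Module K V] [FiniteDimensional K V]

/-- A group of isometries of a symplectic space of dimension at least four over a field of odd
characteristic, normalised by all isometries, in which every element has an odd power equal to `±1`,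
consists of `±1`. -/
theorem symp_odd_normal_trivial [Fintype K] {B : LinearMap.BilinForm K V} (hA : B.IsAlt)
    (h2 : (2 : K) ≠ 0) (hnd : ∀ u, (∀ v, B u v = 0) → u = 0) {j : ℕ} (hj : 2 ≤ j)
    (hdim : Module.finrank K V = 2 * j) {P : Subgroup (V ≃ₗ[K] V)}
    (hn : ∀ g : V ≃ₗ[K] V, (∀ u v, B (g u) (g v) = B u v) → ∀ x ∈ P, g * x * g⁻¹ ∈ P)
    (hodd : ∀ x ∈ P, ∃ m : ℕ, Odd m ∧ ((∀ u, (x ^ m) u = u) ∨ ∀ u, (x ^ m) u = -u))
    (hiso : ∀ x ∈ P, ∀ u v, B (x u) (x v) = B u v) {x : V ≃ₗ[K] V} (hx : x ∈ P) :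
    (∀ u, x u = u) ∨ ∀ u, x u = -u := by
  classical
  obtain ⟨e⟩ := nonempty_isoGroup_alt_equiv_sp B hA hnd hdim
  set N : Subgroup (Matrix.symplecticGroup (Fin j) K) := (P.subgroupOf (isoGroup B)).map e.toMonoidHom
  have : (P.subgroupOf (isoGroup B)).Normal := ⟨fun a ha g => hn g.1 g.2 _ ha⟩
  have hN : N.Normal := Subgroup.Normal.map this _ e.surjective
  -- the central elements
  have hv : ∃ v : V, v ≠ 0 := by
    by_contra h
    push Not at h
    have : Subsingleton V := ⟨fun a b => by rw [h a, h b]⟩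
    rw [Module.finrank_zero_of_subsingleton] at hdim
    omega
  obtain ⟨v, hv⟩ := hv
  let ng : isoGroup B := ⟨LinearEquiv.neg K, fun u w => by simp⟩
  have hng : ng ≠ 1 := by
    intro h
    have h1 : -v = v := LinearEquiv.congr_fun (congrArg Subtype.val h) v
    have h3 : (2 : K) • v = 0 := by rw [two_smul]; nth_rewrite 1 [← h1]; exact neg_add_cancel v
    exact (smul_eq_zero.1 h3).elim h2 hv
  have hpm : ∀ A : Matrix.symplecticGroup (Fin j) K, A ∈ Subgroup.center _ →
      A.1 = 1 ∨ A.1 = -1 := by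
    intro A hA
    obtain ⟨r, hr⟩ := mem_center_iff.1 hA
    rcases sq_eq_one_iff.1 (sq_eq_one_of_scalar (by omega) hr) with rfl | rfl
    · exact Or.inl (by rw [hr, one_smul])
    · exact Or.inr (by rw [hr, neg_one_smul])
  have hngc : e ng ∈ Subgroup.center _ := by
    rw [Subgroup.mem_center_iff]
    intro g
    obtain ⟨g, rfl⟩ := e.surjective g
    rw [← map_mul, ← map_mul]
    congr 1
    exact Subtype.ext (LinearEquiv.ext fun u => by simp [ng, LinearEquiv.mul_apply])
  have hsign : ∀ a : isoGroup B, e a ∈ Subgroup.center _ → a = 1 ∨ a = ng := by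
    intro a ha
    have hne : (e ng).1 = -1 := (hpm _ hngc).resolve_left fun h =>
      hng (e.injective ((Subtype.ext h).trans (map_one e).symm))
    rcases hpm _ ha with h | h
    · exact Or.inl (e.injective ((Subtype.ext h).trans (map_one e).symm))
    · exact Or.inr (e.injective (Subtype.ext (h.trans hne.symm)))
  have hx' : e ⟨x, hiso x hx⟩ ∈ N := Subgroup.mem_map_of_mem _ (show x ∈ P from hx)
  rcases normal_eq_top_or_le_center (show 1 ≤ j by omega)
    (commutator_Sp_eq_top (Or.inr (Or.inl ⟨hj, h2⟩))) N with h | h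
  · exfalso
    let JJ : Matrix.symplecticGroup (Fin j) K := ⟨Matrix.J (Fin j) K, SymplecticGroup.J_mem _ _⟩
    obtain ⟨a, ha, hae⟩ := (h ▸ Subgroup.mem_top JJ : JJ ∈ N)
    obtain ⟨m, hm, hpow⟩ := hodd a.1 ha
    have hc : JJ ^ m ∈ Subgroup.center _ := by
      rw [← hae]
      rcases hpow with hp | hp
      · have : a ^ m = 1 := Subtype.ext (LinearEquiv.ext fun u => hp u)
        rw [← map_pow, this, map_one]
        exact one_mem _
      · have : a ^ m = ng := Subtype.ext (LinearEquiv.ext fun u => by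
          rw [SubmonoidClass.coe_pow, hp u]; rfl)
        rw [← map_pow, this]
        exact hngc
    obtain ⟨r, hr⟩ := mem_center_iff.1 hc
    obtain ⟨k, rfl⟩ := hm
    have hJ : (JJ ^ (2 * k + 1)).1 = (-1 : K) ^ k • Matrix.J (Fin j) K := by
      rw [SubmonoidClass.coe_pow, pow_succ, pow_mul, show JJ.1 ^ 2 = -1 by rw [pow_two]; exact Matrix.J_squared _ _,
        show (-1 : Matrix (Fin j ⊕ Fin j) (Fin j ⊕ Fin j) K) = (-1 : K) • 1 by rw [neg_one_smul],
        smul_pow, one_pow, Matrix.smul_mul, Matrix.one_mul]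
    rw [hJ] at hr
    have := congrFun (congrFun hr (Sum.inl ⟨0, by omega⟩)) (Sum.inr ⟨0, by omega⟩)
    simp [Matrix.J] at this
  · rcases hsign _ (h hx') with h1 | h1
    · exact Or.inl fun u => LinearEquiv.congr_fun (congrArg Subtype.val h1) u
    · exact Or.inr fun u => LinearEquiv.congr_fun (congrArg Subtype.val h1) u

end CfsgLib.ClassicalCore
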