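import Mathlib

/-!
# Normal subgroups of odd order modulo signs in orthogonal groups

`B` is a nondegenerate symmetric form on a space of dimension at least `3` over a finite field of odd
characteristic.  A group of isometries normalised by all isometries in which every element has an
odd power equal to `±1` consists of `±1`.

The proof: if `x` moves the line of an anisotropic `a` with isotropic vectors in `a⊥`, the product
`r_a r_(xa)` lies in the group; moving `a` by reflections fixing `xa` one finds two orthogonal such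
vectors, and their product of reflections is an involution.
-/

set_option autoImplicit false

namespace CfsgLib.ClassicalCore

set_option linter.unusedSectionVars false

variable {K V : Type*} [Field K] [AddCommGroup V] [Module K V] {B : LinearMap.BilinForm K V}

/-- Reflection in an anisotropic vector. -/
noncomputable def refl {a : V} (ha : B a a ≠ 0) : V ≃ₗ[K] V :=
  Module.reflection (x := a) (f := (2 / B a a) • B a)
    (show (2 / B a a) * B a a = 2 by rw [div_mul_cancel₀ _ ha])

theorem refl_apply {a : V} (ha : B a a ≠ 0) (u : V) : refl ha u = u - (2 / B a a * B a u) • a := rfl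

theorem refl_self {a : V} (ha : B a a ≠ 0) : refl ha a = -a := by
  rw [refl_apply, div_mul_cancel₀ _ ha, two_smul]
  abel

theorem refl_of_orth {a : V} (ha : B a a ≠ 0) {u : V} (hu : B a u = 0) : refl ha u = u := by
  rw [refl_apply, hu, mul_zero, zero_smul, sub_zero]

variable (hs : ∀ u v, B u v = B v u)
include hs

theorem refl_iso {a : V} (ha : B a a ≠ 0) (u v : V) : B (refl ha u) (refl ha v) = B u v := by
  simp only [refl_apply, map_sub, map_smul, LinearMap.sub_apply, LinearMap.smul_apply, smul_eq_mul, hs u a]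
  field_simp
  ring

theorem refl_conj {a : V} (ha : B a a ≠ 0) {g : V ≃ₗ[K] V} (hg : ∀ u v, B (g u) (g v) = B u v)
    {b : V} (hb : g a = b) (hb0 : B b b ≠ 0) : g * refl ha * g⁻¹ = refl hb0 := by
  subst hb
  refine LinearEquiv.ext fun u => ?_
  obtain ⟨w, rfl⟩ := g.surjective u
  rw [LinearEquiv.mul_apply, LinearEquiv.mul_apply, show g⁻¹ (g w) = w from g.symm_apply_apply w,
    refl_apply, refl_apply, map_sub, map_smul, hg, hg]

/-- Two linear conditions leave a nonzero vector. -/
theorem exists_mem_ker_ne_zero [FiniteDimensional K V] (hdim : 3 ≤ Module.finrank K V) (a b : V) :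
    ∃ w, w ≠ 0 ∧ B a w = 0 ∧ B b w = 0 := by
  have h : LinearMap.ker ((B a).prod (B b)) ≠ ⊥ := by
    intro h
    have h1 := LinearMap.finrank_le_finrank_of_injective (LinearMap.ker_eq_bot.1 h)
    rw [Module.finrank_prod, Module.finrank_self] at h1
    omega
  obtain ⟨w, hw, hw0⟩ := Submodule.exists_mem_ne_zero_of_ne_bot h
  simp only [LinearMap.mem_ker, LinearMap.prod_apply, Function.prod, Prod.mk_eq_zero] at hw
  exact ⟨w, hw0, hw.1, hw.2⟩

variable (h2 : (2 : K) ≠ 0) (hnd : ∀ u, (∀ v, B u v = 0) → u = 0)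
include h2 hnd

/-- A subspace cut out by at most two vectors contains an anisotropic vector. -/
theorem exists_aniso_orth [FiniteDimensional K V] (hdim : 3 ≤ Module.finrank K V) {e f : V}
    (he : B e e ≠ 0) (hf : B f f ≠ 0) (hef : B e f = 0) : ∃ w, B e w = 0 ∧ B f w = 0 ∧ B w w ≠ 0 := by
  by_contra hc
  push Not at hc
  obtain ⟨w, hw0, hw1, hw2⟩ := exists_mem_ker_ne_zero hs hdim e f
  refine hw0 (hnd w fun v => ?_)
  set v' := v - (B e v / B e e) • e - (B f v / B f f) • f with hv'
  have h1 : B e v' = 0 := by simp [hv', hef, he]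
  have h3 : B f v' = 0 := by simp [hv', hs f e, hef, hf]
  have h4 := hc (w + v') (by simp [hw1, h1]) (by simp [hw2, h3])
  simp only [map_add, LinearMap.add_apply, hc w hw1 hw2, hc v' h1 h3, hs v' w] at h4
  have h5 : B w v' = 0 := by
    have : (2 : K) * B w v' = 0 := by linear_combination h4
    simpa [h2] using this
  simpa [hv', hs w e, hs w f, hw1, hw2] using h5

variable [FiniteDimensional K V] (hdim : 3 ≤ Module.finrank K V)
include hdim

/-- Three orthogonal anisotropic vectors. -/
theorem exists_triple : ∃ e f g : V, B e e ≠ 0 ∧ B f f ≠ 0 ∧ B g g ≠ 0 ∧ B e f = 0 ∧ B e g = 0 ∧ B f g = 0 := by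
  obtain ⟨e, he⟩ : ∃ e, B e e ≠ 0 := by
    by_contra hc
    push Not at hc
    obtain ⟨w, hw0, -, -⟩ := exists_mem_ker_ne_zero hs hdim (0 : V) 0
    refine hw0 (hnd w fun v => ?_)
    have h4 := hc (w + v)
    simp only [map_add, LinearMap.add_apply, hc, hs v w] at h4
    have : (2 : K) * B w v = 0 := by linear_combination h4
    simpa [h2] using this
  obtain ⟨f, hf1, hf⟩ : ∃ f, B e f = 0 ∧ B f f ≠ 0 := by
    by_contra hc
    push Not at hc
    obtain ⟨w, hw0, hw1, -⟩ := exists_mem_ker_ne_zero hs hdim e e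
    refine hw0 (hnd w fun v => ?_)
    set v' := v - (B e v / B e e) • e with hv'
    have h1 : B e v' = 0 := by simp [hv', he]
    have h4 := hc (w + v') (by simp [hw1, h1])
    simp only [map_add, LinearMap.add_apply, hc w hw1, hc v' h1, hs v' w] at h4
    have h5 : B w v' = 0 := by
      have : (2 : K) * B w v' = 0 := by linear_combination h4
      simpa [h2] using this
    simpa [hv', hs w e, hw1] using h5
  obtain ⟨g, hg1, hg2, hg⟩ := exists_aniso_orth hs h2 hnd hdim he hf hf1
  exact ⟨e, f, g, he, hf, hg, hf1, hg1, hg2⟩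

section

variable {P : Subgroup (V ≃ₗ[K] V)}
  (hn : ∀ g : V ≃ₗ[K] V, (∀ u v, B (g u) (g v) = B u v) → ∀ x ∈ P, g * x * g⁻¹ ∈ P)
  (hodd : ∀ x ∈ P, ∃ m : ℕ, Odd m ∧ ((∀ u, (x ^ m) u = u) ∨ ∀ u, (x ^ m) u = -u))
include hn hodd

theorem not_orth {a b : V} (ha : B a a ≠ 0) (hb : B b b ≠ 0) (hab : B a b = 0) :
    refl ha * refl hb ∉ P := by
  intro h
  obtain ⟨w, hw0, hw1, hw2⟩ := exists_mem_ker_ne_zero hs hdim a b
  set y := refl ha * refl hb with hy
  have hya : y a = -a := by
    rw [hy, LinearEquiv.mul_apply, refl_of_orth hb (by rw [hs, hab]), refl_self]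
  have hyw : y w = w := by
    rw [hy, LinearEquiv.mul_apply, refl_of_orth hb hw2, refl_of_orth ha hw1]
  obtain ⟨m, hm, hpm⟩ := hodd y h
  have hfix : ∀ k : ℕ, (y ^ k) w = w := fun k => by
    induction k with
    | zero => rfl
    | succ k ih => rw [pow_succ, LinearEquiv.mul_apply, hyw, ih]
  have hneg : ∀ k : ℕ, (y ^ k) a = (-1 : K) ^ k • a := fun k => by
    induction k with
    | zero => simp
    | succ k ih =>
      rw [pow_succ', LinearEquiv.mul_apply, ih, map_smul, hya, pow_succ, mul_smul, neg_one_smul]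
  have h1 := hneg m
  rw [hm.neg_one_pow, neg_one_smul] at h1
  rcases hpm with hp | hp
  · rw [hp] at h1
    have h4 : (2 : K) • a = 0 := by rw [two_smul]; exact eq_neg_iff_add_eq_zero.1 h1
    rw [smul_eq_zero] at h4
    rcases h4 with h4 | h4
    · exact h2 h4
    · exact ha (by simp [h4])
  · have h4 := (hfix m).symm.trans (hp w)
    have h5 : (2 : K) • w = 0 := by rw [two_smul]; exact eq_neg_iff_add_eq_zero.1 h4
    rw [smul_eq_zero] at h5
    exact h5.elim h2 hw0

/-- Moving `a` to `c` by a reflection fixing `b`. -/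
theorem move {a b c : V} (ha : B a a ≠ 0) (hb : B b b ≠ 0) (hc : B c c ≠ 0)
    (hacd : B (a - c) (a - c) ≠ 0) (hQ : B c c = B a a) (hbc : B b c = B b a)
    (h : refl ha * refl hb ∈ P) : refl ha * refl hc ∈ P := by
  set g := refl hacd
  have hgb : g b = b := refl_of_orth hacd (by rw [hs, map_sub, hbc, sub_self])
  have hga : g a = c := by
    have h1 : B (a - c) (a - c) = 2 * B (a - c) a := by
      simp only [map_sub, LinearMap.sub_apply, hs c a, hQ]
      ring
    have h1' : B (a - c) a ≠ 0 := fun h0 => hacd (by rw [h1, h0, mul_zero])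
    rw [refl_apply, h1, show (2 : K) / (2 * B (a - c) a) * B (a - c) a = 1 by field_simp, one_smul]
    abel
  have h' := hn g (refl_iso hs hacd) _ h
  rw [show g * (refl ha * refl hb) * g⁻¹ = (g * refl ha * g⁻¹) * (g * refl hb * g⁻¹) by group,
    refl_conj hs ha (refl_iso hs hacd) hga hc, refl_conj hs hb (refl_iso hs hacd) hgb hb] at h'
  have := P.mul_mem h (P.inv_mem h')
  rw [_root_.mul_inv_rev, show (refl hc)⁻¹ = refl hc from Module.reflection_inv _, mul_assoc,
    mul_inv_cancel_left] at this
  exact this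

/-- No pair with `B(a,b) = ±B(a,a)`. -/
theorem not_tangent {a b : V} (ha : B a a ≠ 0) (hb : B b b ≠ 0) (hQ : B b b = B a a)
    (hC : B a b ^ 2 = B a a ^ 2) (hne : ∀ k : K, b ≠ k • a) : refl ha * refl hb ∉ P := by
  intro h
  set C := B a b / B a a
  have hCa : B a b = C * B a a := (div_mul_cancel₀ _ ha).symm
  have hC2 : C ^ 2 = 1 := by
    simp only [C, div_pow, hC]
    exact div_self (pow_ne_zero _ ha)
  have hab0 : B a b ≠ 0 := fun h0 => ha (by simpa [h0] using hC.symm)
  set b' := b - C • a with hb'
  have hab' : B a b' = 0 := by simp [hb', hCa]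
  have hbb' : B b' b' = 0 := by
    simp only [hb', map_sub, map_smul, LinearMap.sub_apply, LinearMap.smul_apply, smul_eq_mul, hs b a, hQ, hCa]
    linear_combination (-B a a) * hC2
  obtain ⟨v, hv⟩ : ∃ v, B b' v ≠ 0 := by
    by_contra hc
    push Not at hc
    exact hne C (sub_eq_zero.1 (hnd b' hc))
  set t₀ := v - (B a v / B a a) • a with ht₀
  have hat₀ : B a t₀ = 0 := by simp [ht₀, ha]
  have hbt₀ : B b' t₀ ≠ 0 := by simpa [ht₀, hs b' a, hab'] using hv
  set t := (B a b / B b' t₀) • t₀ with ht
  have hat : B a t = 0 := by simp [ht, hat₀]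
  have hbt : B b' t = B a b := by simp [ht, hbt₀]
  set z := (B a a - B t t) / (2 * B a b) with hz
  set c := t + z • b' with hc
  have hac : B a c = 0 := by simp [hc, hat, hab']
  have hbc : B b c = B b a := by
    have h1 : B b c = B b' c + C * B a c := by simp [hb']
    rw [h1, hac, mul_zero, add_zero, hs b a]; simp [hc, hbb', hbt]
  have hQc : B c c = B a a := by
    simp only [hc, map_add, map_smul, LinearMap.add_apply, LinearMap.smul_apply, smul_eq_mul, hs t b', hbt, hbb']
    rw [hz]
    field_simp
    ring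
  have hc0 : B c c ≠ 0 := hQc ▸ ha
  have hacd : B (a - c) (a - c) ≠ 0 := by
    simp only [map_sub, LinearMap.sub_apply, hs c a, hac, hQc]
    ring_nf
    exact mul_ne_zero ha h2
  exact not_orth hs h2 hnd hdim hn hodd ha hc0 hac
    (move hs h2 hnd hdim hn hodd ha hb hc0 hacd hQc hbc h)

variable (hiso : ∀ x ∈ P, ∀ u v, B (x u) (x v) = B u v)
include hiso

/-- Anisotropic lines with isotropic vectors in the orthogonal complement are fixed. -/
theorem exists_smul_of_isotropic {x : V ≃ₗ[K] V} (hx : x ∈ P) {a n : V} (ha : B a a ≠ 0) (hn0 : n ≠ 0)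
    (hnn : B n n = 0) (han : B a n = 0) : ∃ s : K, x a = s • a := by
  by_contra hne
  push Not at hne
  set b := x a with hbdef
  have hQ : B b b = B a a := hiso x hx a a
  have hb : B b b ≠ 0 := hQ ▸ ha
  have h : refl ha * refl hb ∈ P := by
    have h1 := P.mul_mem (hn _ (refl_iso hs ha) x hx) (P.inv_mem hx)
    have h1' : refl ha * x * (refl ha)⁻¹ * x⁻¹ = refl ha * (x * (refl ha)⁻¹ * x⁻¹) := by group
    rw [h1', show (refl ha)⁻¹ = refl ha from Module.reflection_inv _,
      refl_conj hs ha (hiso x hx) hbdef.symm hb] at h1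
    exact h1
  by_cases hab : B a b = 0
  · exact not_orth hs h2 hnd hdim hn hodd ha hb hab h
  set b' := b - (B a b / B a a) • a with hb'
  have hab' : B a b' = 0 := by simp [hb', ha]
  obtain ⟨v, hv⟩ : ∃ v, B b' v ≠ 0 := by
    by_contra hc
    push Not at hc
    exact hne _ (sub_eq_zero.1 (hnd b' hc))
  obtain ⟨m, hm, hmn, hmm⟩ : ∃ m, B a m = 0 ∧ B b' m ≠ 0 ∧ B m m = 0 := by
    by_cases hbn : B b' n = 0
    swap
    · exact ⟨n, han, hbn, hnn⟩
    obtain ⟨u, hu⟩ : ∃ u, B n u ≠ 0 := by
      by_contra hc
      push Not at hc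
      exact hn0 (hnd n hc)
    set u' := u - (B a u / B a a) • a with hu'
    set v' := v - (B a v / B a a) • a with hv'
    have hau : B a u' = 0 := by simp [hu', ha]
    have hav : B a v' = 0 := by simp [hv', ha]
    have hnu : B n u' ≠ 0 := by simpa [hu', hs n a, han] using hu
    have hbv : B b' v' ≠ 0 := by simpa [hv', hs b' a, hab'] using hv
    obtain ⟨t, hat, hnt, hbt⟩ : ∃ t, B a t = 0 ∧ B n t ≠ 0 ∧ B b' t ≠ 0 := by
      by_cases h1 : B b' u' ≠ 0
      · exact ⟨u', hau, hnu, h1⟩
      by_cases h3 : B n v' ≠ 0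
      · exact ⟨v', hav, h3, hbv⟩
      push Not at h1 h3
      exact ⟨u' + v', by simp [hau, hav], by simp [h3, hnu], by simp [h1, hbv]⟩
    refine ⟨t - (B t t / (2 * B n t)) • n, by simp [hat, han], by simp [hbn, hbt], ?_⟩
    simp only [map_sub, map_smul, LinearMap.sub_apply, LinearMap.smul_apply, smul_eq_mul, hnn, hs t n]
    field_simp
    ring
  have hbm : B b m ≠ 0 := by simpa [hb', hm] using hmn
  set l := 2 * B a b / B b m with hl
  set c := -a + l • m with hc
  have hl0 : l ≠ 0 := div_ne_zero (mul_ne_zero h2 hab) hbm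
  have hac : B a c = -B a a := by simp [hc, hm]
  have hQc : B c c = B a a := by simp [hc, hm, hs m a, hmm]
  have hc0 : B c c ≠ 0 := hQc ▸ ha
  have hbc : B b c = B b a := by
    simp only [hc, map_add, map_neg, map_smul, smul_eq_mul, hl, hs b a]
    field_simp
    ring
  have hacd : B (a - c) (a - c) ≠ 0 := by
    have h1 : B (a - c) (a - c) = 2 * 2 * B a a := by
      simp only [map_sub, LinearMap.sub_apply, hs c a, hac, hQc]
      ring
    rw [h1]
    exact mul_ne_zero (mul_ne_zero h2 h2) ha
  refine not_tangent hs h2 hnd hdim hn hodd ha hc0 hQc (by rw [hac, neg_sq]) (fun k hk => ?_)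
    (move hs h2 hnd hdim hn hodd ha hb hc0 hacd hQc hbc h)
  have h1 : m = ((k + 1) / l) • a := by
    rw [div_eq_inv_mul, mul_smul, add_smul, one_smul, ← hk, hc]
    rw [neg_add_cancel_comm, smul_smul, inv_mul_cancel₀ hl0, one_smul]
  rw [h1, map_smul, smul_eq_mul, mul_eq_zero] at hm
  have h3 := hm.resolve_right ha
  rw [h3, zero_smul] at h1
  exact hmn (by simp [h1])

omit hodd hiso in
theorem exists_isotropic [Finite K] : ∃ n : V, n ≠ 0 ∧ B n n = 0 := by
  classical
  have : Fintype K := Fintype.ofFinite K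
  obtain ⟨e, f, g, he, hf, hg, hef, heg, hfg⟩ := exists_triple hs h2 hnd hdim
  have hodd : Fintype.card K % 2 = 1 :=
    FiniteField.odd_card_of_char_ne_two fun hc => h2 (by
      have := ringChar.of_eq hc; exact CharP.cast_eq_zero K 2)
  obtain ⟨l, u, hlu⟩ := FiniteField.exists_root_sum_quadratic
    (Polynomial.degree_quadratic (R := K) (b := 0) (c := B g g) he)
    (Polynomial.degree_quadratic (R := K) (b := 0) (c := 0) hf) hodd
  simp at hlu
  refine ⟨g + l • e + u • f, fun h0 => hg ?_, ?_⟩
  · simpa [hs g e, hs g f, heg, hfg] using congrArg (B g) h0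
  · simp only [map_add, map_smul, LinearMap.add_apply, LinearMap.smul_apply, smul_eq_mul, hef, heg, hfg,
      hs f e, hs g e, hs g f]
    linear_combination hlu

/-- **Normal subgroups of odd order modulo signs are trivial.** -/
theorem orth_odd_normal_trivial [Finite K] {x : V ≃ₗ[K] V} (hx : x ∈ P) :
    (∀ u, x u = u) ∨ ∀ u, x u = -u := by
  obtain ⟨n, hn0, hnn⟩ := exists_isotropic hs h2 hnd hdim hn
  obtain ⟨m₀, hm₀⟩ : ∃ u, B n u ≠ 0 := by
    by_contra hc
    push Not at hc
    exact hn0 (hnd n hc)
  obtain ⟨w, hw0, hw1, hw2⟩ := exists_mem_ker_ne_zero hs hdim n m₀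
  obtain ⟨a, hna, ha⟩ : ∃ a, B n a = 0 ∧ B a a ≠ 0 := by
    by_contra hc
    push Not at hc
    refine hw0 (hnd w fun v => ?_)
    set v' := v - (B n v / B n m₀) • m₀ with hv'
    have h1 : B n v' = 0 := by simp [hv', hm₀]
    have h4 := hc (w + v') (by simp [hw1, h1])
    simp only [map_add, LinearMap.add_apply, hc w hw1, hc v' h1, hs v' w] at h4
    have h5 : B w v' = 0 := by
      have : (2 : K) * B w v' = 0 := by linear_combination h4
      simpa [h2] using this
    simpa [hv', hs w m₀, hw2] using h5
  have han : B a n = 0 := by rw [hs, hna]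
  obtain ⟨s, hsa⟩ := exists_smul_of_isotropic hs h2 hnd hdim hn hodd hiso hx ha hn0 hnn han
  have hs2 : s ^ 2 = 1 := by
    have := hiso x hx a a
    simp only [hsa, map_smul, LinearMap.smul_apply, smul_eq_mul] at this
    exact mul_right_cancel₀ ha (by linear_combination this)
  -- `n` has the same sign
  have hxn : x n = s • n := by
    have ha' : B (a + n) (a + n) ≠ 0 := by simpa [hna, han, hnn] using ha
    obtain ⟨s', hs'⟩ := exists_smul_of_isotropic hs h2 hnd hdim hn hodd hiso hx ha' hn0 hnn
      (by simp [han, hnn])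
    have h1 : x n = s' • (a + n) - s • a := by rw [← hs', map_add, hsa, add_sub_cancel_left]
    have h3 := hiso x hx n n
    rw [hnn, h1] at h3
    simp only [map_sub, map_add, map_smul, LinearMap.sub_apply, LinearMap.add_apply, LinearMap.smul_apply,
      smul_eq_mul, hna, han, hnn] at h3
    have h4 : (s' - s) ^ 2 * B a a = 0 := by linear_combination h3
    have h5 : s' = s := sub_eq_zero.1 (pow_eq_zero_iff two_ne_zero |>.1 ((mul_eq_zero.1 h4).resolve_right ha))
    rw [h1, h5, smul_add, add_sub_cancel_left]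
  -- so have all vectors orthogonal to `n`
  have hperpA : ∀ b, B n b = 0 → B b b ≠ 0 → x b = s • b := by
    intro b hnb hb
    have hbn : B b n = 0 := by rw [hs, hnb]
    obtain ⟨s', hs'⟩ := exists_smul_of_isotropic hs h2 hnd hdim hn hodd hiso hx hb hn0 hnn hbn
    have hb' : B (b + n) (b + n) ≠ 0 := by simpa [hnb, hbn, hnn] using hb
    obtain ⟨s'', hs''⟩ := exists_smul_of_isotropic hs h2 hnd hdim hn hodd hiso hx hb' hn0 hnn
      (by simp [hbn, hnn])
    rw [map_add, hs', hxn, smul_add] at hs''
    have e1 := congrArg (B b) hs''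
    simp only [map_add, map_smul, smul_eq_mul, hbn] at e1
    have e2 : s' = s'' := mul_right_cancel₀ hb (by linear_combination e1)
    rw [← e2, add_right_inj] at hs''
    rw [hs', smul_left_injective K hn0 hs'']
  have hperp : ∀ b, B n b = 0 → x b = s • b := by
    intro b hnb
    by_cases hb : B b b = 0
    swap
    · exact hperpA b hnb hb
    by_cases hba : B (b + a) (b + a) = 0
    · have h1 : B (b - a) (b - a) ≠ 0 := by
        intro h0
        simp only [map_add, map_sub, LinearMap.add_apply, LinearMap.sub_apply, hb, hs a b] at hba h0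
        exact mul_ne_zero h2 ha (by linear_combination hba + h0)
      have h3 := hperpA (b - a) (by simp [hnb, hna]) h1
      rw [map_sub, hsa, smul_sub] at h3
      exact sub_left_inj.1 h3
    · have h3 := hperpA (b + a) (by simp [hnb, hna]) hba
      rw [map_add, hsa, smul_add] at h3
      exact add_left_injective _ h3
  have hm : x m₀ = s • m₀ := by
    refine sub_eq_zero.1 (hnd _ fun v => ?_)
    set v' := v - (B n v / B n m₀) • m₀ with hv'
    have h1 : B n v' = 0 := by simp [hv', hm₀]
    have key : ∀ z, x z = s • z → B (x m₀) z = s * B m₀ z := fun z hz => by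
      have h3 := hiso x hx m₀ z
      rw [hz, map_smul, smul_eq_mul] at h3
      calc B (x m₀) z = s ^ 2 * B (x m₀) z := by rw [hs2, one_mul]
        _ = s * (s * B (x m₀) z) := by ring
        _ = s * B m₀ z := by rw [h3]
    have h6 : B (x m₀) m₀ = s * B m₀ m₀ := by
      -- `y = x m₀ - s m₀` is orthogonal to `n⊥`, hence isotropic and proportional to `n`
      have h7 := hiso x hx m₀ m₀
      have h8 : ∀ z, B n z = 0 → B (x m₀ - s • m₀) z = 0 := fun z hz => by
        simp [key z (hperp z hz)]
      set y := x m₀ - s • m₀ with hy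
      set k := B y m₀ / B n m₀
      have hyn : y = k • n := by
        refine sub_eq_zero.1 (hnd _ fun z => ?_)
        have hz : B n (z - (B n z / B n m₀) • m₀) = 0 := by simp [hm₀]
        have := h8 _ hz
        simp only [map_sub, map_smul, smul_eq_mul] at this
        simp only [map_sub, LinearMap.sub_apply, map_smul, LinearMap.smul_apply, smul_eq_mul, k]
        field_simp at this ⊢
        linear_combination this
      have hxm : x m₀ = s • m₀ + k • n := by rw [← hyn, hy]; abel
      rw [hxm] at h7 ⊢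
      simp only [map_add, map_smul, LinearMap.add_apply, LinearMap.smul_apply, smul_eq_mul, hnn,
        hs m₀ n] at h7 ⊢
      have hk : k * B n m₀ = 0 := by
        have h9 : 2 * s * (k * B n m₀) = 0 := by linear_combination h7 - B m₀ m₀ * hs2
        have hs0 : s ≠ 0 := fun h0 => by simp [h0] at hs2
        exact (mul_eq_zero.1 h9).resolve_left (mul_ne_zero h2 hs0)
      linear_combination hk
    have h10 := key v' (hperp v' h1)
    simp only [hv', map_sub, map_smul, smul_eq_mul] at h10
    simp only [map_sub, LinearMap.sub_apply, map_smul, LinearMap.smul_apply, smul_eq_mul]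
    linear_combination h10 + (B n v / B n m₀) * h6
  have hall : ∀ v, x v = s • v := fun v => by
    have h1 := hperp (v - (B n v / B n m₀) • m₀) (by simp [hm₀])
    rw [map_sub, map_smul, hm, smul_sub, smul_comm] at h1
    exact sub_left_inj.1 h1
  rcases sq_eq_one_iff.1 hs2 with rfl | rfl
  · exact Or.inl fun u => by rw [hall, one_smul]
  · exact Or.inr fun u => by rw [hall, neg_one_smul]

end

end CfsgLib.ClassicalCore
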